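import Mathlib
import Cfsg.Agent.CL2.Loc

/-!
# Constrained 2-locals `N(Q)` with `N(Q)/Q` a TI-group and 2-central involutions in `Q`
-/

set_option autoImplicit false

namespace Cfsg.Agent.TIL

open Subgroup Cfsg.Agent.PLocal.Amb

variable {G : Type*} [Group G]

/-- `Ω₁ Z(Q)`. -/
def om (Q : Subgroup G) : Subgroup G where
  carrier := {x | x ∈ Q ∧ x ∈ 𝐂[Q] ∧ x * x = 1}
  one_mem' := ⟨one_mem _, one_mem _, mul_one 1⟩
  mul_mem' := fun {a b} ha hb => ⟨mul_mem ha.1 hb.1, mul_mem ha.2.1 hb.2.1, by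
    rw [mul_assoc, ← mul_assoc b, ha.2.1 b hb.1, mul_assoc, hb.2.2, mul_one, ha.2.2]⟩
  inv_mem' := fun {a} ha => ⟨inv_mem ha.1, inv_mem ha.2.1, by rw [← mul_inv_rev, ha.2.2, inv_one]⟩

theorem om_le (Q : Subgroup G) : om Q ≤ Q := fun _ h => h.1
theorem om_le_c (Q : Subgroup G) : om Q ≤ 𝐂[Q] := fun _ h => h.2.1
theorem om_sq {Q : Subgroup G} {x : G} (h : x ∈ om Q) : x * x = 1 := h.2.2
theorem om_comm {Q : Subgroup G} {x y : G} (h : x ∈ om Q) (hy : y ∈ Q) : y * x = x * y := h.2.1 y hy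
theorem conj_sq {x : G} (g : G) (h : x * x = 1) : g * x * g⁻¹ * (g * x * g⁻¹) = 1 := by
  rw [show g * x * g⁻¹ * (g * x * g⁻¹) = g * (x * x) * g⁻¹ by group, h]; group
theorem cj_om (g : G) (Q : Subgroup G) : cj(g, om Q) = om cj(g, Q) := by
  ext x
  rw [mem_cj]
  refine ⟨fun h => ⟨mem_cj.2 h.1, ?_, ?_⟩, fun h => ⟨mem_cj.1 h.1, ?_, ?_⟩⟩
  · rw [centralizer_cj]; exact mem_cj.2 h.2.1
  · simpa [mul_assoc] using conj_sq g h.2.2
  · have := h.2.1; rw [centralizer_cj] at this; exact mem_cj.1 this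
  · simpa [mul_assoc] using conj_sq g⁻¹ h.2.2
theorem n_le_om (Q : Subgroup G) : 𝐍[Q] ≤ 𝐍[om Q] := fun g hg =>
  cj_eq_iff.1 (by rw [cj_om, cj_eq_iff.2 hg])
theorem conj_mem_om {Q : Subgroup G} {g x : G} (hg : g ∈ 𝐍[Q]) (hx : x ∈ om Q) :
    g * x * g⁻¹ ∈ om Q := conj_mem_of_mem_normalizer (n_le_om Q hg) hx
theorem om_ne_bot [Finite G] {Q : Subgroup G} (hQ : IsPGroup 2 Q) (h : Q ≠ ⊥) : om Q ≠ ⊥ := by
  have h1 := inf_centralizer_ne_bot hQ hQ le_normalizer h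
  obtain ⟨⟨x, hx⟩, hx1⟩ := ne_bot_iff_exists_ne_one.1 h1
  obtain ⟨k, hk⟩ := isPGroup_iff.1 hQ x hx.1
  have hx1' : x ≠ 1 := fun e => hx1 (Subtype.ext e)
  induction k generalizing x with
  | zero => exact absurd (by simpa using hk) hx1'
  | succ k ih =>
    by_cases e : x * x = 1
    · exact fun hb => hx1' (mem_bot.1 (hb ▸ (⟨hx.1, hx.2, e⟩ : x ∈ om Q)))
    · exact ih (x * x) (mul_mem hx hx) (fun e' => e (congrArg Subtype.val e'))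
        (by rw [← sq, ← pow_mul, ← pow_succ', hk]) e

/-- `L` is 2-closed. -/
def Closed (L : Subgroup G) : Prop := ∀ T T', IsSyl 2 T L → IsSyl 2 T' L → T = T'

theorem Closed.mono {K L : Subgroup G} (h : Closed L) (hK : K ≤ L) : Closed K := by
  intro T T' hT hT'
  obtain ⟨U, hU, e⟩ := exists_isSyl_ge hT.pgrp (hT.le.trans hK)
  obtain ⟨U', hU', e'⟩ := exists_isSyl_ge hT'.pgrp (hT'.le.trans hK)
  obtain rfl := h U U' hU hU'
  have h1 := hT.eq (hU.pgrp.to_le inf_le_left) (le_inf e hT.le) inf_le_right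
  have h2 := hT'.eq (hU.pgrp.to_le inf_le_left) (le_inf e' hT'.le) inf_le_right
  exact h1.symm.trans h2

theorem Closed.cj {L : Subgroup G} (h : Closed L) (g : G) : Closed cj(g, L) := fun T T' hT hT' => by
  have h1 := hT.cj g⁻¹
  have h2 := hT'.cj g⁻¹
  rw [cj_inv_cj] at h1 h2
  exact cj_inj.1 (h _ _ h1 h2)

theorem Closed.le_n {L T : Subgroup G} (h : Closed L) (hT : IsSyl 2 T L) : L ≤ 𝐍[T] :=
  fun _ hg => cj_eq_iff.1 (h _ _ (hT.cj_of_mem hg) hT)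

theorem closed_of_le_n {L T : Subgroup G} (hT : IsSyl 2 T L) (h : L ≤ 𝐍[T]) : Closed L := by
  have : ∀ U, IsSyl 2 U L → U = T := fun U hU =>
    (hU.eq hT.pgrp (hT.le_of_normalizes hU.pgrp hU.le (hU.le.trans h)) hT.le).symm
  exact fun U U' hU hU' => (this U hU).trans (this U' hU').symm

structure WLoc (M Q : Subgroup G) : Prop where
  le : Q ≤ M
  nm : M ≤ 𝐍[Q]
  pg : IsPGroup 2 Q
  cen : M ⊓ 𝐂[Q] ≤ Q
  ti : ∀ T T', IsSyl 2 T M → IsSyl 2 T' M → T ≠ T' → T ⊓ T' ≤ Q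
  inv : ∀ x ∈ Q, x * x = 1 → ∃ T, IsSyl 2 T M ∧ x ∈ 𝐂[T]

/-- The hypothesis: every 2-local that is not 2-closed lies in a good subgroup. -/
def Hyp (G : Type*) [Group G] : Prop := ∀ D : Subgroup G, D ≠ ⊥ → IsPGroup 2 D → ¬ Closed 𝐍[D] →
  ∃ M Q : Subgroup G, WLoc M Q ∧ 𝐍[D] ≤ M

structure Loc (Q : Subgroup G) : Prop extends WLoc 𝐍[Q] Q where
  ncl : ¬ Closed 𝐍[Q]
  max : ∀ D : Subgroup G, D ≠ ⊥ → IsPGroup 2 D → 𝐍[Q] ≤ 𝐍[D] → 𝐍[D] = 𝐍[Q]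

theorem WLoc.ne_bot {M Q : Subgroup G} (h : WLoc M Q) (hM : ¬ Closed M) : Q ≠ ⊥ := by
  rintro rfl
  have : M ≤ ⊥ := fun x hx => h.cen ⟨hx, fun y hy => by rw [mem_bot.1 hy, one_mul, mul_one]⟩
  exact hM fun T T' hT hT' => (eq_bot_iff.2 (hT.le.trans this)).trans (eq_bot_iff.2 (hT'.le.trans this)).symm

theorem Hyp.exists_loc [Finite G] (h : Hyp G) {D : Subgroup G} (h1 : D ≠ ⊥) (h2 : IsPGroup 2 D)
    (h3 : ¬ Closed 𝐍[D]) : ∃ Q, Loc Q ∧ 𝐍[D] ≤ 𝐍[Q] := by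
  obtain ⟨M, hle, ⟨D', e1, e2, rfl⟩, hmax⟩ := (Set.toFinite {M : Subgroup G | ∃ D : Subgroup G,
    D ≠ ⊥ ∧ IsPGroup 2 D ∧ 𝐍[D] = M}).exists_le_maximal (a := 𝐍[D]) ⟨D, h1, h2, rfl⟩
  have h4 : ¬ Closed 𝐍[D'] := fun e => h3 (e.mono hle)
  obtain ⟨M, Q, hw, hM⟩ := h D' e1 e2 h4
  have h5 := hw.ne_bot fun e => h4 (e.mono hM)
  have h6 : 𝐍[Q] ≤ 𝐍[D'] := hmax ⟨Q, h5, hw.pg, rfl⟩ (hM.trans hw.nm)
  obtain rfl : M = 𝐍[Q] := le_antisymm hw.nm (h6.trans hM)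
  exact ⟨Q, ⟨hw, fun e => h4 (e.mono hM), fun D hD hD' e => le_antisymm
    ((hmax ⟨D, hD, hD', rfl⟩ (hM.trans e)).trans hM) e⟩, hle.trans hM⟩

theorem mem_cent_comm {T : Subgroup G} {x t : G} (h : x ∈ 𝐂[T]) (ht : t ∈ T) : t * x = x * t := h t ht

theorem pgrp_zp {T : Subgroup G} (hT : IsPGroup 2 T) {t : G} (ht : t ∈ T) : IsPGroup 2 (zpowers t) :=
  hT.to_le (zpowers_le.2 ht)

namespace Loc

variable {Q T T' : Subgroup G} (h : Loc Q)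
include h

theorem ne : Q ≠ ⊥ := h.toWLoc.ne_bot h.ncl

theorem le_syl (hT : IsSyl 2 T 𝐍[Q]) : Q ≤ T :=
  hT.le_of_le_normalizer h.pg le_normalizer hT.le

theorem exists_ne (hT : IsSyl 2 T 𝐍[Q]) : ∃ T', IsSyl 2 T' 𝐍[Q] ∧ T' ≠ T := by
  by_contra hc
  push Not at hc
  exact h.ncl fun U U' hU hU' => (hc U hU).trans (hc U' hU').symm

theorem core {D : Subgroup G} (hD : IsPGroup 2 D) (h1 : D ≤ 𝐍[Q]) (h2 : 𝐍[Q] ≤ 𝐍[D]) : D ≤ Q := by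
  obtain ⟨T, hT⟩ := exists_isSyl 2 𝐍[Q]
  obtain ⟨T', hT', e⟩ := h.exists_ne hT
  exact (le_inf (hT'.le_of_le_normalizer hD h1 (hT'.le.trans h2))
    (hT.le_of_le_normalizer hD h1 (hT.le.trans h2))).trans (h.ti _ _ hT' hT e)

theorem eq_of_mem (hT : IsSyl 2 T 𝐍[Q]) (hT' : IsSyl 2 T' 𝐍[Q]) {t : G} (ht : t ∈ T) (ht' : t ∈ T')
    (hQ : t ∉ Q) : T = T' := by
  by_contra e
  exact hQ (h.ti _ _ hT hT' e ⟨ht, ht'⟩)

theorem mem_om {x : G} (hx : x ∈ Q) (h2 : x * x = 1) : x ∈ om Q := by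
  obtain ⟨T, hT, e⟩ := h.inv x hx h2
  exact ⟨hx, centralizer_anti (h.le_syl hT) e, h2⟩

theorem mem_of_cent {x : G} (hx : x ∈ 𝐂[Q]) : x ∈ Q := h.cen ⟨centralizer_le_normalizer' Q hx, hx⟩

theorem zmem (hT : IsSyl 2 T 𝐍[Q]) {z : G} (hz : z ∈ 𝐂[T]) (h2 : z * z = 1) : z ∈ om Q :=
  h.mem_om (h.mem_of_cent (centralizer_anti (h.le_syl hT) hz)) h2

theorem not_le (hT : IsSyl 2 T 𝐍[Q]) : ¬ T ≤ Q := fun e => by
  obtain ⟨T', hT', e'⟩ := h.exists_ne hT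
  exact e' (hT.eq hT'.pgrp (e.trans (h.le_syl hT')) hT'.le)

theorem cj (g : G) : Loc cj(g, Q) := by
  have k : ∀ {T}, IsSyl 2 T 𝐍[cj(g, Q)] → IsSyl 2 cj(g⁻¹, T) 𝐍[Q] := fun hT => by
    have := hT.cj g⁻¹
    rwa [normalizer_cj, cj_inv_cj] at this
  refine ⟨⟨le_normalizer, le_rfl, isPGroup_cj g h.pg, ?_, fun T T' hT hT' e => ?_, fun x hx h2 => ?_⟩,
    fun e => h.ncl ?_, fun D h1 h2 e => ?_⟩
  · rw [normalizer_cj, centralizer_cj, ← cj_inf]; exact cj_mono g h.cen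
  · rw [le_cj_iff, cj_inf]; exact h.ti _ _ (k hT) (k hT') fun e' => e (cj_inj.1 e')
  · obtain ⟨T, hT, e⟩ := h.inv _ (mem_cj.1 hx) (by simpa using conj_sq g⁻¹ h2)
    exact ⟨cj(g, T), normalizer_cj g Q ▸ hT.cj g, centralizer_cj g T ▸ mem_cj.2 e⟩
  · have := e.cj g⁻¹
    rwa [normalizer_cj, cj_inv_cj] at this
  · have := h.max cj(g⁻¹, D) (mt cj_eq_bot.1 h1) (isPGroup_cj _ h2) (by
      rw [normalizer_cj, le_cj_iff, inv_inv, ← normalizer_cj]; exact e)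
    rw [normalizer_cj g, ← this, normalizer_cj, cj_cj_inv]

theorem eq_of_n {Q' : Subgroup G} (h' : Loc Q') (e : 𝐍[Q] = 𝐍[Q']) : Q = Q' :=
  le_antisymm (h'.core h.pg (e ▸ le_normalizer) e.ge) (h.core h'.pg (e ▸ le_normalizer) e.le)

variable [Finite G]

theorem n_om : 𝐍[om Q] = 𝐍[Q] :=
  h.max _ (om_ne_bot h.pg h.ne) (h.pg.to_le (om_le Q)) (n_le_om Q)

theorem eq_of_om {Q' : Subgroup G} (h' : Loc Q') (e : om Q = om Q') : Q = Q' :=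
  h.eq_of_n h' (by rw [← h.n_om, e, h'.n_om])

/-- an element of `T \ Q` has the same fixed points on `V` as `T`. -/
theorem fix (hT : IsSyl 2 T 𝐍[Q]) {v t : G} (hv : v ∈ om Q) (ht : t ∈ T) (hQ : t ∉ Q)
    (e : t * v = v * t) : v ∈ 𝐂[T] := by
  obtain ⟨T', hT', e'⟩ := h.inv v hv.1 hv.2.2
  have h1 : IsSyl 2 T' (𝐍[Q] ⊓ centralizer {v}) :=
    hT'.mono (le_inf hT'.le fun y hy => mem_centralizer_singleton_iff.2 (e' y hy)) inf_le_left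
  obtain ⟨R, hR, hR'⟩ := exists_isSyl_ge (pgrp_zp hT.pgrp ht) (L := 𝐍[Q] ⊓ centralizer {v})
    (zpowers_le.2 ⟨hT.le ht, mem_centralizer_singleton_iff.2 e⟩)
  have h2 := hR.of_le_of_isSyl inf_le_left hT' h1.le
  obtain rfl := h.eq_of_mem hT h2 ht (hR' (mem_zpowers t)) hQ
  exact fun y hy => mem_centralizer_singleton_iff.1 (hR.le hy).2

end Loc

/-- the commutator `r v r⁻¹ v⁻¹`. -/
def cm (r v : G) : G := r * v * r⁻¹ * v⁻¹

theorem cm_eq_one {r v : G} : cm r v = 1 ↔ r * v = v * r := by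
  rw [cm, mul_inv_eq_one, mul_inv_eq_iff_eq_mul]

theorem cm_mem_om {Q : Subgroup G} {r v : G} (hr : r ∈ 𝐍[Q]) (hv : v ∈ om Q) : cm r v ∈ om Q :=
  mul_mem (conj_mem_om hr hv) (inv_mem hv)

theorem cm_cm {Q : Subgroup G} {r v : G} (hr : r ∈ 𝐍[Q]) (hv : v ∈ om Q) :
    cm r (cm r v) = cm (r * r) v := by
  have h1 := conj_mem_om hr hv
  have h2 := CL2.inv_eq_of_sq h1.2.2
  have h3 := om_comm hv h1.1
  have h4 := CL2.inv_eq_of_sq hv.2.2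
  calc cm r (cm r v) = r * r * v * (r * r)⁻¹ * ((r * v * r⁻¹)⁻¹ * v * (r * v * r⁻¹)⁻¹) := by
        simp only [cm]; group
    _ = cm (r * r) v := by
        rw [h2, h3, mul_assoc v, h1.2.2, mul_one, cm, h4]

namespace Loc

variable [Finite G] {Q T T' : Subgroup G} (h : Loc Q) (hT : IsSyl 2 T 𝐍[Q]) (h2 : ¬ om Q ≤ 𝐂[T])
include h hT h2

theorem sq_mem {r : G} (hr : r ∈ T) : r * r ∈ Q := by
  have key : ∀ r ∈ T, r * r * (r * r) ∈ Q → r * r ∈ Q := fun r hr h4 => by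
    by_contra hq
    have hrQ : r ∉ Q := fun e => hq (mul_mem e e)
    have hM := hT.le hr
    have step : ∀ w ∈ om Q, cm r (cm r w) = 1 → cm r w = 1 := fun w hw e => by
      rw [cm_cm hM hw, cm_eq_one] at e
      exact cm_eq_one.2 (h.fix hT hw (mul_mem hr hr) hq e r hr)
    refine h2 fun v hv => h.fix hT hv hr hrQ (cm_eq_one.1 (step v hv (step _ (cm_mem_om hM hv)
      (step _ (cm_mem_om hM (cm_mem_om hM hv)) ?_))))
    rw [cm_cm hM (cm_mem_om hM (cm_mem_om hM hv)), cm_cm hM hv, cm_cm (mul_mem hM hM) hv, cm_eq_one]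
    exact om_comm hv h4
  obtain ⟨k, hk⟩ := isPGroup_iff.1 hT.pgrp r hr
  have hk' : r ^ 2 ^ k ∈ Q := hk ▸ one_mem Q
  clear hk
  induction k generalizing r with
  | zero => rw [pow_zero, pow_one] at hk'; exact mul_mem hk' hk'
  | succ k ih => exact key r hr (ih (mul_mem hr hr) (by rwa [← sq, ← pow_mul, ← pow_succ']))

theorem cm_mem {r v : G} (hr : r ∈ T) (hv : v ∈ om Q) : cm r v ∈ om Q ⊓ 𝐂[T] := by
  have h1 := cm_mem_om (hT.le hr) hv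
  refine ⟨h1, ?_⟩
  by_cases e : r ∈ Q
  · rw [cm_eq_one.2 (om_comm hv e)]; exact one_mem _
  · refine h.fix hT h1 hr e (cm_eq_one.1 ?_)
    rw [cm_cm (hT.le hr) hv, cm_eq_one]
    exact om_comm hv (h.sq_mem hT h2 hr)

theorem sep (hT' : IsSyl 2 T' 𝐍[Q]) {v r : G} (hv : v ∈ om Q) (hv' : v ∈ 𝐂[T']) (hv2 : v ∉ 𝐂[T])
    (hr : r ∈ T) (e : cm r v ∈ 𝐂[T']) : r ∈ Q := by
  by_contra hQ
  have hy := h.cm_mem hT h2 hr hv
  let K : Subgroup G :=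
    { carrier := {g | g * cm r v = cm r v * g ∧ (cm g v = 1 ∨ cm g v = cm r v)}
      one_mem' := ⟨by simp, Or.inl (by simp [cm])⟩
      mul_mem' := fun {a b} ha hb => ⟨by rw [mul_assoc, hb.1, ← mul_assoc, ha.1, mul_assoc], by
        have e1 : cm (a * b) v = a * cm b v * a⁻¹ * cm a v := by simp only [cm]; group
        rcases hb.2 with e2 | e2 <;> rcases ha.2 with e3 | e3 <;> rw [e1, e2, e3]
        · left; group
        · right; group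
        · right; rw [ha.1]; group
        · left; rw [ha.1, mul_inv_cancel_right, hy.1.2.2]⟩
      inv_mem' := fun {a} ha => ⟨by
        rw [inv_mul_eq_iff_eq_mul, ← mul_assoc, ha.1, mul_inv_cancel_right], by
        have e1 : cm a⁻¹ v = a⁻¹ * (cm a v)⁻¹ * a := by simp only [cm]; group
        rcases ha.2 with e3 | e3 <;> rw [e1, e3]
        · left; group
        · right; rw [CL2.inv_eq_of_sq hy.1.2.2, mul_assoc, ← ha.1, inv_mul_cancel_left]⟩ }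
  have h1 : IsSyl 2 T' (𝐍[Q] ⊓ K) := hT'.mono (le_inf hT'.le fun t ht =>
    ⟨e t ht, Or.inl (cm_eq_one.2 (hv' t ht))⟩) inf_le_left
  obtain ⟨g, hg, hle⟩ := h1.exists_le_cj (pgrp_zp hT.pgrp hr)
    (zpowers_le.2 ⟨hT.le hr, hy.2 r hr, Or.inr rfl⟩)
  have h3 := hv' _ (mem_cj.1 (hle (mem_zpowers r)))
  have h4 : r * (cm g v * v) = cm g v * v * r := by
    calc r * (cm g v * v) = g * (g⁻¹ * r * g * v) * g⁻¹ := by simp only [cm]; group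
      _ = cm g v * v * r := by rw [h3]; simp only [cm]; group
  refine hv2 (h.fix hT hv hr hQ ?_)
  rcases hg.2.2 with e3 | e3 <;> rw [e3] at h4
  · simpa using h4
  · rwa [← mul_assoc, hy.2 r hr, mul_assoc, mul_assoc, mul_right_inj] at h4

theorem idx1 (hT' : IsSyl 2 T' 𝐍[Q]) {v : G} (hv : v ∈ om Q) (hv' : v ∈ 𝐂[T']) (hv2 : v ∉ 𝐂[T]) :
    Q.relIndex T ≤ (𝐂[T']).relIndex (om Q ⊓ 𝐂[T]) := by
  refine (CL2.idx (fun r => cm r v) (fun r hr => h.cm_mem hT h2 hr hv) fun r hr r' hr' => ?_).1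
  have e : (cm r v)⁻¹ * cm r' v = cm (r⁻¹ * r') v := by
    have h3 := (h.cm_mem hT h2 (mul_mem (inv_mem hr) hr') hv).2 r hr
    have h4 := om_comm (h.cm_mem hT h2 hr hv).1 (h.cm_mem hT h2 (mul_mem (inv_mem hr) hr') hv).1.1
    rw [inv_mul_eq_iff_eq_mul, ← h4]
    calc cm r' v = r * cm (r⁻¹ * r') v * r⁻¹ * cm r v := by simp only [cm]; group
      _ = _ := by rw [h3, mul_inv_cancel_right]
  rw [e]
  exact ⟨h.sep hT h2 hT' hv hv' hv2 (mul_mem (inv_mem hr) hr'), fun e' => by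
    rw [cm_eq_one.2 (om_comm hv e')]; exact one_mem _⟩

omit h2 h in
theorem idx2 (hT' : IsSyl 2 T' 𝐍[Q]) :
    (𝐂[T']).relIndex (om Q ⊓ 𝐂[T]) ≤ (𝐂[T]).relIndex (om Q) := by
  obtain ⟨g, hg, rfl⟩ := hT'.exists_cj_eq hT
  refine (relIndex_le_of_le_right inf_le_left (index_ne_zero_of_finite)).trans_eq ?_
  rw [centralizer_cj, ← CL2.relIndex_cj g (𝐂[T]) (om Q), cj_eq_iff.2 (n_le_om Q hg)]

theorem exists_idx : ∃ T', IsSyl 2 T' 𝐍[Q] ∧ T' ≠ T ∧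
    Q.relIndex T ≤ (𝐂[T']).relIndex (om Q ⊓ 𝐂[T]) := by
  obtain ⟨v, hv, hv2⟩ := SetLike.not_le_iff_exists.1 h2
  obtain ⟨T', hT', e⟩ := h.inv v hv.1 hv.2.2
  exact ⟨T', hT', fun e' => hv2 (e' ▸ e), h.idx1 hT h2 hT' hv e hv2⟩

theorem idx_le : Q.relIndex T ≤ (𝐂[T]).relIndex (om Q) := by
  obtain ⟨T', hT', -, e⟩ := h.exists_idx hT h2
  exact e.trans (idx2 hT hT')

/-- offenders. -/
theorem off {A : Subgroup G} (hA : A ≤ T) (hs : ∀ a ∈ A, a * a = 1) (hQ : ¬ A ≤ Q) :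
    Nat.card A ≤ Nat.card (om Q) ∧ (Nat.card (om Q) ≤ Nat.card A →
      (∀ t ∈ T, ∃ a ∈ A, a⁻¹ * t ∈ Q) ∧ Q.relIndex T = (𝐂[T]).relIndex (om Q)) := by
  obtain ⟨t, ht, htQ⟩ := SetLike.not_le_iff_exists.1 hQ
  have h1 : Q ⊓ A ≤ 𝐂[T] ⊓ om Q := fun a ha =>
    ⟨h.fix hT (h.mem_om ha.1 (hs a ha.2)) (hA ht) htQ (CL2.comm_of_sq hs ht ha.2),
      h.mem_om ha.1 (hs a ha.2)⟩
  have h3 := card_le_of_le h1
  have h4 := Grp.card_inf_mul_relIndex' Q A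
  have h5 := Grp.card_inf_mul_relIndex' (𝐂[T]) (om Q)
  have h6 := CL2.idx (B := A) (K := Q) (Z := T) (W := Q) id hA fun _ _ _ _ => Iff.rfl
  have h7 := h.idx_le hT h2
  have h8 : 0 < Nat.card ↥(𝐂[T] ⊓ om Q) := Nat.card_pos
  refine ⟨h4 ▸ h5 ▸ Nat.mul_le_mul h3 (h6.1.trans h7), fun e => ?_⟩
  have h9 : (𝐂[T]).relIndex (om Q) ≤ Q.relIndex A := by
    refine Nat.le_of_mul_le_mul_left ?_ h8
    rw [h5]; exact e.trans (h4 ▸ Nat.mul_le_mul_right _ h3)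
  exact ⟨h6.2 (h7.trans h9), le_antisymm h7 (h9.trans h6.1)⟩

theorem card_le {A : Subgroup G} (hA : A ≤ T) (hs : ∀ a ∈ A, a * a = 1) :
    Nat.card A ≤ Nat.card (om Q) := by
  by_cases hQ : A ≤ Q
  · exact card_le_of_le fun a ha => h.mem_om (hQ ha) (hs a ha)
  · exact (h.off hT h2 hA hs hQ).1

end Loc

end Cfsg.Agent.TIL
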