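import Mathlib
import Cfsg.Agent.TIL.Loc

/-! # Two good locals with a common Sylow subgroup; locals centralising `Ω₁(Q)` -/

set_option autoImplicit false

namespace Cfsg.Agent.TIL

open Subgroup Cfsg.Agent.PLocal.Amb Cfsg.Agent.CL2

variable {G : Type*} [Group G] [Finite G] {Q Q' T T' S : Subgroup G}

theorem Loc.prod (h : Loc Q) (h' : Loc Q') (hne : Q ≠ Q') (hT : IsSyl 2 T 𝐍[Q])
    (hT' : IsSyl 2 T 𝐍[Q']) (h2 : ¬ om Q ≤ 𝐂[T]) (h2' : ¬ om Q' ≤ 𝐂[T]) :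
    Nat.card (om Q) = Nat.card (om Q') ∧ ¬ om Q' ≤ Q ∧ (∀ t ∈ T, ∃ a ∈ om Q', a⁻¹ * t ∈ Q) ∧
      Q.relIndex T = (𝐂[T]).relIndex (om Q) := by
  have l := (om_le Q).trans (h.le_syl hT)
  have l' := (om_le Q').trans (h'.le_syl hT')
  have e := le_antisymm (h'.card_le hT' h2' l fun _ => om_sq) (h.card_le hT h2 l' fun _ => om_sq)
  have n : ¬ om Q' ≤ Q := fun e' => hne (h.eq_of_om h' (eq_of_le_of_card_ge
    (fun a ha => h.mem_om (e' ha) (om_sq ha)) e.le).symm)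
  exact ⟨e, n, (h.off hT h2 l' (fun _ => om_sq) n).2 e.le⟩

theorem Loc.two_sq (h : Loc Q) (h' : Loc Q') (hne : Q ≠ Q') (hT : IsSyl 2 T 𝐍[Q])
    (hT' : IsSyl 2 T 𝐍[Q']) (h2 : ¬ om Q ≤ 𝐂[T]) (h2' : ¬ om Q' ≤ 𝐂[T]) : ∀ x ∈ Q, x * x = 1 := by
  have key : ∀ {Q Q' : Subgroup G}, (∀ t ∈ T, ∃ a ∈ om Q, a⁻¹ * t ∈ Q') → Q ≤ T →
      (fun u => u * u) '' (Q : Set G) ⊆ (fun u => u * u) '' (Q' : Set G) := by
    rintro Q Q' hp hl _ ⟨u, hu, rfl⟩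
    obtain ⟨a, ha, e⟩ := hp u (hl hu)
    refine ⟨_, e, ?_⟩
    show a⁻¹ * u * (a⁻¹ * u) = u * u
    rw [inv_eq_of_sq (om_sq ha), mul_assoc, ← mul_assoc u, om_comm ha hu, mul_assoc, ← mul_assoc,
      om_sq ha, one_mul]
  have e := Set.Subset.antisymm (key (h'.prod h hne.symm hT' hT h2' h2).2.2.1 (h.le_syl hT))
    (key (h.prod h' hne hT hT' h2 h2').2.2.1 (h'.le_syl hT'))
  have hn : ∀ {Q : Subgroup G}, 𝐍[Q] ≤ 𝐍[Subgroup.closure ((fun u => u * u) '' (Q : Set G))] := by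
    intro Q g hg
    refine mem_normalizer_of_cj_le (map_le_iff_le_comap.2 ((closure_le _).2 ?_))
    rintro _ ⟨u, hu, rfl⟩
    exact subset_closure ⟨_, conj_mem_of_mem_normalizer hg hu, by simp [mul_assoc]⟩
  have hl : Subgroup.closure ((fun u => u * u) '' (Q : Set G)) ≤ Q := (closure_le _).2 (by
    rintro _ ⟨u, hu, rfl⟩; exact mul_mem hu hu)
  by_cases hb : Subgroup.closure ((fun u => u * u) '' (Q : Set G)) = ⊥
  · exact fun x hx => mem_bot.1 (hb ▸ subset_closure ⟨x, hx, rfl⟩)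
  · exact absurd (h.eq_of_n h' ((h.max _ hb (h.pg.to_le hl) hn).symm.trans
      (h'.max _ hb (h.pg.to_le hl) (e ▸ hn)))) hne

theorem Loc.om_eq (h : Loc Q) (hs : ∀ x ∈ Q, x * x = 1) : om Q = Q :=
  le_antisymm (om_le Q) fun x hx => h.mem_om hx (hs x hx)

theorem Loc.two (h : Loc Q) (h' : Loc Q') (hne : Q ≠ Q') (hT : IsSyl 2 T 𝐍[Q])
    (hT' : IsSyl 2 T 𝐍[Q']) (h2 : ¬ om Q ≤ 𝐂[T]) (h2' : ¬ om Q' ≤ 𝐂[T]) :
    TM T Q Q' ∧ Nat.card Q = Nat.card Q' ∧ Q.relIndex T = (𝐂[T]).relIndex Q ∧ 𝐂[T] ⊓ Q = Q ⊓ Q' := by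
  have s := h.two_sq h' hne hT hT' h2 h2'
  have s' := h'.two_sq h hne.symm hT' hT h2' h2
  have p := h.prod h' hne hT hT' h2 h2'
  have p' := h'.prod h hne.symm hT' hT h2' h2
  have z : ∀ a ∈ 𝐂[T], a ∈ Q → a ∈ Q' := fun a ha haQ => (h'.zmem hT' ha (s a haQ)).1
  rw [h.om_eq s, h'.om_eq s'] at p p'
  have hp : ∀ t ∈ T, ∃ a ∈ Q, ∃ b ∈ Q', a * b = t := fun t ht => by
    obtain ⟨a, ha, e⟩ := p'.2.2.1 t ht
    exact ⟨a, ha, _, e, by group⟩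
  have tm : TM T Q Q' := ⟨h.le_syl hT, h'.le_syl hT', s, s', p'.2.1, p.2.1, fun t ht e => ?_, hp⟩
  · exact ⟨tm, p.1, p.2.2.2, le_antisymm (fun a ha => ⟨ha.2, z a ha.1 ha.2⟩)
      fun a ha => ⟨fun t ht => tm.z_comm ha.1 ha.2 ht, ha.1⟩⟩
  · obtain ⟨a, ha, b, hb, rfl⟩ := hp t ht
    by_cases hbQ : b ∈ Q
    · exact Or.inl (mul_mem ha hbQ)
    · refine Or.inr (mul_mem (z a (h.fix hT (h.mem_om ha (s a ha)) (h'.le_syl hT' hb) hbQ ?_) ha) hb)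
      rw [← inv_eq_of_sq e, mul_inv_rev, inv_eq_of_sq (s a ha), inv_eq_of_sq (s' b hb)]

theorem not_closed {M L : Subgroup G} (hT : IsSyl 2 T M) (hT' : IsSyl 2 T' M) (hne : T ≠ T')
    (h1 : T ≤ L) (h2 : T' ≤ L) : ¬ Closed L := fun e =>
  hne (e.mono (inf_le_right : M ⊓ L ≤ L) _ _ (hT.mono (le_inf hT.le h1) inf_le_left)
    (hT'.mono (le_inf hT'.le h2) inf_le_left))

theorem Loc.inf_le (h : Loc Q) {M : Subgroup G} (hT : IsSyl 2 T M) (hT' : IsSyl 2 T' M) (hne : T ≠ T')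
    (h1 : T ≤ 𝐍[Q]) (h2 : T' ≤ 𝐍[Q]) : T ⊓ T' ≤ Q := by
  obtain ⟨U, hU, e⟩ := exists_isSyl_ge hT.pgrp h1
  obtain ⟨U', hU', e'⟩ := exists_isSyl_ge hT'.pgrp h2
  refine (inf_le_inf e e').trans (h.ti _ _ hU hU' fun e'' => hne ?_)
  subst e''
  exact (hT.eq (hU.pgrp.to_le inf_le_left) (le_inf e hT.le) inf_le_right).symm.trans
    (hT'.eq (hU.pgrp.to_le inf_le_left) (le_inf e' hT'.le) inf_le_right)

theorem n_zpowers_ge {y : G} (hy : y ∈ 𝐂[T]) : T ≤ 𝐍[zpowers y] := fun t ht =>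
  centralizer_le_normalizer' _ (centralizer_zpowers y ▸ mem_centralizer_singleton_iff.2 (hy t ht))

theorem Loc.cent_le (H : Hyp G) (h : Loc Q) (hs : ∀ x ∈ Q, x * x = 1) (hT : IsSyl 2 T 𝐍[Q])
    (hT' : IsSyl 2 T' 𝐍[Q]) (hne : T ≠ T') {y : G} (h1 : y ≠ 1) (h2 : y * y = 1) (hy : y ∈ 𝐂[T])
    (hy' : y ∈ 𝐂[T']) : centralizer {y} ≤ 𝐍[Q] := by
  obtain ⟨Q', h', hl⟩ := H.exists_loc (zpowers_ne_bot.2 h1) (pgrp_zpowers h2)
    (not_closed hT hT' hne (n_zpowers_ge hy) (n_zpowers_ge hy'))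
  have h3 : Q ≤ Q' := (le_inf (h.le_syl hT) (h.le_syl hT')).trans
    (h'.inf_le hT hT' hne ((n_zpowers_ge hy).trans hl) ((n_zpowers_ge hy').trans hl))
  have h4 : Q' ≤ Q := fun x hx => h.mem_of_cent fun a ha => (om_comm (h'.mem_om (h3 ha) (hs a ha)) hx).symm
  rw [le_antisymm h3 h4, ← centralizer_zpowers]
  exact (centralizer_le_normalizer' _).trans hl

/-! ### elements acting trivially on a chain -/

/-- `g` acts trivially on `A` modulo `B`. -/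
def Tr (A B : Subgroup G) (g : G) : Prop := ∀ a ∈ A, cm g a ∈ B

omit [Finite G] in
theorem Tr.mul {A B : Subgroup G} (hBA : B ≤ A) {g k : G} (hg : Tr A B g) (hk : Tr A B k) :
    Tr A B (g * k) := fun a ha => by
  rw [show cm (g * k) a = cm g (cm k a) * cm k a * cm g a by simp only [cm]; group]
  exact mul_mem (mul_mem (hg _ (hBA (hk a ha))) (hk a ha)) (hg a ha)

omit [Finite G] in
theorem Tr.pow {A B : Subgroup G} (hBA : B ≤ A) {g : G} (hg : Tr A B g) (n : ℕ) : Tr A B (g ^ n) := by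
  induction n with
  | zero => exact fun a _ => by simp [cm, one_mem]
  | succ n ih => rw [pow_succ]; exact ih.mul hBA hg

omit [Finite G] in
theorem Tr.cent {A B : Subgroup G} (hB : IsPGroup 2 B) {g : G} (ho : (orderOf g).Coprime 2)
    (hg : Tr A B g) (hc : g ∈ 𝐂[B]) : g ∈ 𝐂[A] := fun a ha => by
  have h1 : Commute (cm g a) g := hc _ (hg a ha)
  have h2 : ∀ n : ℕ, g ^ n * a * (g ^ n)⁻¹ = cm g a ^ n * a := fun n => by
    induction n with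
    | zero => simp
    | succ n ih =>
      calc g ^ (n + 1) * a * (g ^ (n + 1))⁻¹ = g * (g ^ n * a * (g ^ n)⁻¹) * g⁻¹ := by group
        _ = cm g a ^ n * (g * a * g⁻¹) := by
          rw [ih, ← mul_assoc, ← (h1.pow_left n).eq]; group
        _ = _ := by rw [pow_succ]; simp only [cm]; group
  have h3 := h2 (orderOf g)
  rw [pow_orderOf_eq_one, one_mul, inv_one, mul_one, eq_comm, mul_eq_right] at h3
  exact (cm_eq_one.1 (eq_one_of_isPGroup_of_coprime hB (hg a ha)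
    (Nat.Coprime.coprime_dvd_left (orderOf_dvd_of_pow_eq_one h3) ho))).symm

theorem Loc.key (h : Loc Q) (hS : IsSyl 2 S 𝐍[Q]) (h1 : om Q ≤ 𝐂[S]) {D : Subgroup G} (hD : D ≤ Q)
    (hoD : om Q ≤ D) {v g : G} (hv : v ∈ S) (hv2 : v * v = 1)
    (hg : g ∈ 𝐍[Q]) (hgS : cj(g, S) ≠ S) (t1 : Tr D (om Q) v) (t2 : Tr Q D v) (t3 : Tr Q cj(g, D) v) :
    v ∈ Q := by
  by_contra hvQ
  have hS' := hS.cj_of_mem hg
  have hcj : ∀ {A B : Subgroup G}, Tr A B v → Tr cj(g, A) cj(g, B) (g * v * g⁻¹) := fun t a ha => by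
    have := conj_mem_cj g (t _ (mem_cj.1 ha))
    rwa [show g * cm v (g⁻¹ * a * g) * g⁻¹ = cm (g * v * g⁻¹) a by simp only [cm]; group] at this
  have eQ := cj_eq_iff.2 hg
  have eo := cj_eq_iff.2 (n_le_om Q hg)
  have l1 : cj(g, D) ≤ Q := eQ ▸ cj_mono g hD
  have l2 : om Q ≤ cj(g, D) := eo ▸ cj_mono g hoD
  have u1 : Tr cj(g, D) (om Q) (g * v * g⁻¹) := eo ▸ hcj t1
  have u2 : Tr Q cj(g, D) (g * v * g⁻¹) := eQ ▸ hcj t2
  obtain ⟨k, hk⟩ := exists_pow_coprime (p := 2) (v * (g * v * g⁻¹))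
  have hvt : v * (g * v * g⁻¹) ∈ 𝐍[Q] := mul_mem (hS.le hv) (hS'.le (conj_mem_cj g hv))
  have cv : v ∈ 𝐂[om Q] := fun a ha => (h1 ha v hv).symm
  have cv' : g * v * g⁻¹ ∈ 𝐂[om Q] := fun a ha => by
    have : om Q ≤ 𝐂[cj(g, S)] := by rw [centralizer_cj, ← eo]; exact cj_mono g h1
    exact (this ha _ (conj_mem_cj g hv)).symm
  have c1 : (v * (g * v * g⁻¹)) ^ 2 ^ k ∈ 𝐂[om Q] := pow_mem (mul_mem cv cv') _
  have c2 : (v * (g * v * g⁻¹)) ^ 2 ^ k ∈ 𝐂[D ⊓ cj(g, D)] :=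
    ((Tr.mul (le_inf hoD l2) (fun a ha => t1 a ha.1) fun a ha => u1 a ha.2).pow (le_inf hoD l2) _).cent
      (h.pg.to_le (om_le Q)) hk c1
  have c3 : (v * (g * v * g⁻¹)) ^ 2 ^ k ∈ 𝐂[cj(g, D)] :=
    ((Tr.mul inf_le_right (fun a ha => ⟨t2 a (l1 ha), t3 a (l1 ha)⟩)
      fun a ha => le_inf hoD l2 (u1 a ha)).pow inf_le_right _).cent
      (h.pg.to_le (inf_le_left.trans hD)) hk c2
  have c4 : (v * (g * v * g⁻¹)) ^ 2 ^ k ∈ 𝐂[Q] :=
    ((Tr.mul l1 t3 u2).pow l1 _).cent (h.pg.to_le l1) hk c3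
  have c5 := eq_one_of_isPGroup_of_coprime h.pg (h.mem_of_cent c4) hk
  have hp : IsPGroup 2 ↥(zpowers v ⊔ zpowers (v * (g * v * g⁻¹))) := by
    refine isPGroup_sup (pgrp_zpowers hv2) (isPGroup_zpowers ⟨k, c5⟩) (zpowers_le.2
      (mem_normalizer_of_cj_le ?_))
    rw [MonoidHom.map_zpowers, zpowers_le, ← inv_mem_iff]
    convert mem_zpowers (v * (g * v * g⁻¹)) using 1
    have := inv_eq_of_sq hv2
    simp only [MulEquiv.coe_toMonoidHom, MulAut.conj_apply, mul_inv_rev, inv_inv, this, ← mul_assoc,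
      hv2, one_mul]
  obtain ⟨U, hU, hl⟩ := exists_isSyl_ge hp (sup_le (zpowers_le.2 (hS.le hv)) (zpowers_le.2 hvt))
  have m1 := hl (mem_sup_left (mem_zpowers v))
  have m2 := mul_mem (inv_mem m1) (hl (mem_sup_right (mem_zpowers _)))
  rw [inv_mul_cancel_left] at m2
  exact hgS ((h.eq_of_mem hS' hU (conj_mem_cj g hv) m2 fun e => hvQ (conj_mem_cj_iff.1 (eQ.symm ▸ e))).trans
    (h.eq_of_mem hS hU hv m1 hvQ).symm)

end Cfsg.Agent.TIL
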