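import Mathlib
import Cfsg.Agent.TIL.Two

/-! # Fusion is controlled by `N(S)` and the good locals -/

set_option autoImplicit false

namespace Cfsg.Agent.TIL

open Subgroup Cfsg.Agent.PLocal.Amb Cfsg.Agent.CL2

variable {G : Type*} [Group G] [Finite G] {Q T S : Subgroup G}

/-- `Q` is a good local in standard position with respect to `S`. -/
structure Std (S Q : Subgroup G) : Prop extends Loc Q where
  syl : IsSyl 2 (S ⊓ 𝐍[Q]) 𝐍[Q]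

theorem Loc.exists_std (h : Loc Q) (hS : IsSyl 2 S ⊤) (hT : IsSyl 2 T 𝐍[Q]) :
    ∃ k : G, Std S cj(k, Q) ∧ cj(k, T) = S ⊓ 𝐍[cj(k, Q)] := by
  obtain ⟨k, -, e⟩ := hS.exists_cj_le hT.pgrp le_top
  have h1 : IsSyl 2 cj(k, T) 𝐍[cj(k, Q)] := normalizer_cj k Q ▸ hT.cj k
  have h2 := h1.eq (hS.pgrp.to_le inf_le_left) (le_inf e h1.le) inf_le_right
  exact ⟨k, ⟨h.cj k, h2.symm ▸ h1⟩, h2.symm⟩

omit [Finite G] in
theorem Std.le' (h : Std S Q) : Q ≤ S ⊓ 𝐍[Q] := h.le_syl h.syl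

omit [Finite G] in
theorem Std.leS (h : Std S Q) : Q ≤ S := h.le'.trans inf_le_left

omit [Finite G] in
theorem Std.cj (h : Std S Q) {g : G} (hg : g ∈ 𝐍[S]) : Std S cj(g, Q) :=
  ⟨h.toLoc.cj g, by
    have := h.syl.cj g
    rwa [cj_inf, cj_eq_iff.2 hg, ← normalizer_cj] at this⟩

theorem Hyp.fusion (H : Hyp G) (hS : IsSyl 2 S ⊤) {X : G → Prop}
    (h0 : ∀ g ∈ 𝐍[S], ∀ x ∈ S, X x → X (g * x * g⁻¹))
    (hQ : ∀ Q, Std S Q → ∀ g ∈ 𝐍[Q], ∀ x ∈ Q, X x → X (g * x * g⁻¹))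
    {g x : G} (hx : x ∈ S) (hgx : g * x * g⁻¹ ∈ S) (hX : X x) : X (g * x * g⁻¹) := by
  have hS' : PLocal.CF.Syl 2 S ⊤ := ⟨hS.le, hS.pgrp, hS.not_dvd_relIndex⟩
  have key : ∀ {V : Subgroup G}, (∀ g ∈ 𝐍[V], ∀ x ∈ V, X x → X (g * x * g⁻¹)) →
      ∀ g ∈ 𝐍[V], ∀ x ∈ V, X x ↔ X (g * x * g⁻¹) := fun hK g hg x hx =>
    ⟨hK g hg x hx, fun e => by
      simpa [mul_assoc] using hK _ (inv_mem hg) _ (conj_mem_of_mem_normalizer hg hx) e⟩
  refine (PLocal.CF.alperin_ind hS' Set.univ (fun T hT => ?_)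
    (fun T g => ∀ x ∈ T, X x ↔ X (g * x * g⁻¹)) (fun T T' g e _ _ _ r x hx => r x (e hx))
    (fun T g k _ _ _ _ _ r r' x hx => ?_) (fun T g _ _ _ r => ?_)
    (fun U _ hU hP ih y hy u hu => ?_) (zpowers x) g (mem_top g) (zpowers_le.2 hx) ?_ x
    (mem_zpowers x)).1 hX
  · obtain ⟨g, hg, h1, h2, -⟩ := PLocal.CF.exists_fullyNormalized' hS' hT
    exact ⟨g, hg, trivial, h1, h2⟩
  · rw [r x hx, r' _ (conj_mem_cj g hx)]; simp [mul_assoc]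
  · rintro _ ⟨x, hx, rfl⟩
    simpa [mul_assoc] using (r x hx).symm
  · by_cases e : U = ⊥
    · rw [mem_bot.1 (e.le hu)]; simp
    by_cases e' : U = S
    · exact key h0 y (e' ▸ hy.2) u (hU hu)
    have h1 : IsSyl 2 (S ⊓ 𝐍[U]) 𝐍[U] := isSyl_of_not_dvd_relIndex hP.pg inf_le_right
      (by simpa using hP.nd)
    have h2 := lt_inf_normalizer hS.pgrp (lt_of_le_of_ne hU e')
    have h3 := Grp.card_lt_of_lt h2
    by_cases hc : Closed 𝐍[U]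
    · exact ih _ y (mem_top y) inf_le_left ((cj_eq_iff.2 (hc.le_n h1 hy.2)).le.trans inf_le_left) h3 u
        (h2.le hu)
    obtain ⟨Q, hl, hle⟩ := H.exists_loc e (hS.pgrp.to_le hU) hc
    obtain ⟨P', hP', ne⟩ : ∃ P', IsSyl 2 P' 𝐍[U] ∧ P' ≠ S ⊓ 𝐍[U] := by
      by_contra hn
      push Not at hn
      exact hc fun V V' hV hV' => (hn V hV).trans (hn V' hV').symm
    have h4 : U ≤ Q := (le_inf (hP'.le_of_le_normalizer (hS.pgrp.to_le hU) le_normalizer hP'.le)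
      h2.le).trans (hl.inf_le hP' h1 ne (hP'.le.trans hle) (h1.le.trans hle))
    obtain ⟨T, hT, h5⟩ := exists_isSyl_ge h1.pgrp (h1.le.trans hle)
    obtain ⟨k, hk, h6⟩ := hl.exists_std hS hT
    have h7 := ih _ k (mem_top k) inf_le_left ((cj_mono k h5).trans (h6.le.trans inf_le_left)) h3
    rw [h7 u (h2.le hu), h7 _ (h2.le (conj_mem_of_mem_normalizer hy.2 hu)),
      key (hQ _ hk) (k * y * k⁻¹) (normalizer_cj k Q ▸ conj_mem_cj k (hle hy.2)) _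
        (conj_mem_cj k (h4 hu))]
    simp [mul_assoc]
  · rw [PLocal.CF.cj, MonoidHom.map_zpowers]
    exact zpowers_le.2 hgx

end Cfsg.Agent.TIL
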