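import Mathlib
import Cfsg.Agent.TIL.Fus
import Cfsg.Agent.Transfer.ThompsonTransfer
import Cfsg.Agent.S0112
import Cfsg.Agent.S0113

/-! # Good locals that are not normal in the Sylow subgroup -/

set_option autoImplicit false
set_option linter.unusedSectionVars false

namespace Cfsg.Agent.TIL

open Subgroup Cfsg.Agent.PLocal.Amb Cfsg.Agent.CL2

variable {G : Type*} [Group G] [Finite G] {Q T S : Subgroup G} {x : G}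

theorem Loc.om_eq_of_le (h : Loc Q) (hT : IsSyl 2 T 𝐍[Q]) (h1 : om Q ≤ 𝐂[T]) : om T = om Q :=
  le_antisymm (fun _ hz => h.zmem hT hz.2.1 hz.2.2) fun _ hz => ⟨h.le_syl hT hz.1, h1 hz, hz.2.2⟩

theorem Loc.n_le_of_le (h : Loc Q) (hT : IsSyl 2 T 𝐍[Q]) (h1 : om Q ≤ 𝐂[T]) : 𝐍[T] ≤ 𝐍[Q] := by
  rw [← h.n_om, ← h.om_eq_of_le hT h1]; exact n_le_om T

theorem card_le_two_mul {A K : Subgroup G} (h : ∀ a ∈ A, ∀ b ∈ A, a ∈ K ∨ b ∈ K ∨ a * b ∈ K) :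
    Nat.card A ≤ 2 * Nat.card ↥(K ⊓ A) := by
  have : K.relIndex A ∣ 2 := relIndex_dvd_two_iff.2 (by
    by_cases e : A ≤ K
    · exact ⟨1, one_mem _, fun b hb => Or.inr (e hb)⟩
    · obtain ⟨a, ha, haK⟩ := SetLike.not_le_iff_exists.1 e
      exact ⟨a, ha, fun b hb => ((h b hb a ha).imp_right fun e => e.resolve_left haK).symm⟩)
  rw [← Grp.card_inf_mul_relIndex' K A, mul_comm]
  exact Nat.mul_le_mul_right _ (Nat.le_of_dvd two_pos this)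

theorem tri_of_idx {Y : Subgroup G} (h : Y.relIndex S = 2) {a b : G} (ha : a ∈ S) (hb : b ∈ S) :
    a ∈ Y ∨ b ∈ Y ∨ a * b ∈ Y := by
  have := mul_mem_iff_of_index_two h (a := ⟨a, ha⟩) (b := ⟨b, hb⟩)
  simp only [mem_subgroupOf, coe_mul] at this
  tauto

/-- A `2`-group with a proper self-centralizing subgroup of order four has a cyclic maximal subgroup. -/
theorem exists_cyc (hS : IsPGroup 2 S) (hQ : Q ≤ S) (h4 : Nat.card Q = 4) (hc : S ⊓ 𝐂[Q] ≤ Q)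
    (hc' : Q ≤ 𝐂[Q]) (hne : ¬ S ≤ Q) : ∃ y ∈ S, (zpowers y).relIndex S = 2 := by
  obtain ⟨n, hn⟩ := hS.exists_card_eq
  have h1 := Grp.card_lt_of_lt (lt_of_le_not_ge hQ hne)
  have h3 : 3 ≤ n := by
    rw [h4, hn] at h1
    exact (Nat.pow_lt_pow_iff_right one_lt_two).1 (show 2 ^ 2 < 2 ^ n from h1)
  obtain ⟨C, hC, e⟩ := S0113.result n h3 hn (S0112.result n hn (Q.subgroupOf S)
    ((Grp.card_subgroupOf_of_le hQ).trans h4) (by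
      rw [centralizer_subgroupOf hQ]
      exact le_antisymm (fun a ha => hc ⟨a.2, ha⟩) fun a ha => hc' ha))
  obtain ⟨y, rfl⟩ := C.isCyclic_iff_exists_zpowers_eq_top.1 hC
  refine ⟨y, y.2, ?_⟩
  rw [relIndex, ← e, ← map_subtype_subgroupOf (zpowers y), MonoidHom.map_zpowers]; rfl

theorem card_le_four {y : G} (h : (zpowers y).relIndex S = 2) {A : Subgroup G} (hA : A ≤ S)
    (hs : ∀ a ∈ A, a * a = 1) : Nat.card A ≤ 4 := by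
  have h1 := card_le_two_mul fun a ha b hb => tri_of_idx h (hA ha) (hA hb)
  have : IsCyclic ↥(zpowers y ⊓ A) := isCyclic_of_le inf_le_left
  obtain ⟨g, hg⟩ := IsCyclic.exists_ofOrder_eq_natCard (α := ↥(zpowers y ⊓ A))
  have h2 : orderOf g ≤ 2 := orderOf_le_of_pow_eq_one two_pos (Subtype.ext (by
    simpa [sq] using hs g g.2.2))
  omega

structure NN (S Q : Subgroup G) (x : G) : Prop extends Std S Q where
  xS : x ∈ S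
  xT : x ∈ 𝐍[S ⊓ 𝐍[Q]]
  xQ : x ∉ 𝐍[Q]

theorem Std.exists_nn (h : Std S Q) (hS : IsSyl 2 S ⊤) (hn : ¬ S ≤ 𝐍[Q]) : ∃ x, NN S Q x := by
  obtain ⟨x, hx, hx'⟩ := SetLike.exists_of_lt (lt_inf_normalizer hS.pgrp (inf_lt_left.2 hn))
  exact ⟨x, h, hx.1, hx.2, fun e => hx' ⟨hx.1, e⟩⟩

namespace NN

variable (h : NN S Q x)
include h

theorem ty : ¬ om Q ≤ 𝐂[S ⊓ 𝐍[Q]] := fun e => h.xQ (h.n_le_of_le h.syl e h.xT)

theorem two : TM (S ⊓ 𝐍[Q]) Q cj(x, Q) ∧ Nat.card Q = Nat.card cj(x, Q) ∧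
    Q.relIndex (S ⊓ 𝐍[Q]) = (𝐂[S ⊓ 𝐍[Q]]).relIndex Q ∧ 𝐂[S ⊓ 𝐍[Q]] ⊓ Q = Q ⊓ cj(x, Q) := by
  refine h.toLoc.two (h.toLoc.cj x) (fun e => h.xQ (cj_eq_iff.1 e.symm)) h.syl ?_ h.ty ?_
  · have := h.syl.cj x
    rwa [cj_eq_iff.2 h.xT, ← normalizer_cj] at this
  · rw [← cj_om, ← cj_eq_iff.2 h.xT, centralizer_cj, cj_le_cj_iff]; exact h.ty

theorem tm : TM (S ⊓ 𝐍[Q]) Q cj(x, Q) := h.two.1

theorem swap {y : G} (hy : y ∈ 𝐍[S ⊓ 𝐍[Q]]) (hQ : y ∉ 𝐍[Q]) :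
    cj(y, Q) = cj(x, Q) ∧ cj(y, cj(x, Q)) = Q := by
  have := h.tm.cj y
  rw [cj_eq_iff.2 hy] at this
  exact (h.tm.eq_or this).resolve_left fun e => hQ (cj_eq_iff.1 e.1)

theorem tri {a b : G} (ha : a ∈ S ⊓ 𝐍[S ⊓ 𝐍[Q]]) (hb : b ∈ S ⊓ 𝐍[S ⊓ 𝐍[Q]]) :
    a ∈ S ⊓ 𝐍[Q] ∨ b ∈ S ⊓ 𝐍[Q] ∨ a * b ∈ S ⊓ 𝐍[Q] := by
  by_cases e : a ∈ 𝐍[Q]
  · exact Or.inl ⟨ha.1, e⟩
  by_cases e' : b ∈ 𝐍[Q]
  · exact Or.inr (Or.inl ⟨hb.1, e'⟩)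
  exact Or.inr (Or.inr ⟨mul_mem ha.1 hb.1, cj_eq_iff.1 (by
    rw [cj_mul, (h.swap hb.2 e').1, (h.swap ha.2 e).2])⟩)

theorem four_le : 4 ≤ Nat.card Q := by
  have h1 := Grp.card_lt_of_lt (inf_lt_left.2 h.tm.nAB)
  have h2 := (one_lt_card_iff_ne_bot _).2 (inf_centralizer_ne_bot h.syl.pgrp h.pg inf_le_right h.ne)
  rw [inf_comm, h.two.2.2.2] at h2
  obtain ⟨n, hn⟩ := h.pg.exists_card_eq
  rw [hn] at h1 ⊢
  exact Nat.pow_le_pow_right two_pos (show 2 ≤ n from (Nat.pow_lt_pow_iff_right one_lt_two).1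
    (show 2 ^ 1 < 2 ^ n by omega))

theorem four (h8 : Nat.card Q < 8) : Nat.card Q = 4 := by
  have := h.four_le
  obtain ⟨n, hn⟩ := h.pg.exists_card_eq
  rw [hn] at h8 this ⊢
  have h1 := (Nat.pow_lt_pow_iff_right one_lt_two).1 (show 2 ^ n < 2 ^ 3 from h8)
  interval_cases n <;> simp_all

variable (H : Hyp G) (h8 : 8 ≤ Nat.card Q)
include H h8

theorem small {e : G} (he : e ∉ 𝐍[Q]) {K : Subgroup G} (hK : K ≤ Q ⊓ cj(x, Q))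
    (hc : ∀ k ∈ K, e * k = k * e) : 2 * Nat.card K < Nat.card Q := by
  obtain ⟨tm, -, -, hZ⟩ := h.two
  have o := h.om_eq tm.sqA
  have c1 := Grp.card_inf_mul_relIndex' 𝐂[S ⊓ 𝐍[Q]] Q
  have c2 : (𝐂[S ⊓ 𝐍[Q]]).relIndex Q ≠ 1 := fun e => h.ty (o.symm ▸ relIndex_eq_one.1 e)
  have c3 := card_le_of_le (hZ ▸ hK)
  obtain ⟨T', hT', ne⟩ := h.exists_ne h.syl
  have c4 := Loc.idx2 h.syl hT'
  have c5 := Grp.card_inf_mul_relIndex' 𝐂[T'] (om Q ⊓ 𝐂[S ⊓ 𝐍[Q]])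
  rw [o, inf_comm Q] at c4 c5
  by_contra hn
  have c6 : (𝐂[S ⊓ 𝐍[Q]]).relIndex Q = 2 := by
    rcases Nat.lt_trichotomy ((𝐂[S ⊓ 𝐍[Q]]).relIndex Q) 2 with e | e | e
    · interval_cases ((𝐂[S ⊓ 𝐍[Q]]).relIndex Q) <;> omega
    · exact e
    · nlinarith
  rw [c6] at c1 c4
  have c7 : K = 𝐂[S ⊓ 𝐍[Q]] ⊓ Q := eq_of_le_of_card_ge (hZ ▸ hK) (by omega)
  obtain ⟨⟨y, hy⟩, hy1⟩ := ne_bot_iff_exists_ne_one.1 ((one_lt_card_iff_ne_bot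
    (𝐂[T'] ⊓ (𝐂[S ⊓ 𝐍[Q]] ⊓ Q))).1 (by nlinarith))
  exact he (h.cent_le H tm.sqA h.syl hT' ne.symm (fun e => hy1 (Subtype.ext e)) (tm.sqA y hy.2.2)
    hy.2.1 hy.1 (mem_centralizer_singleton_iff.2 (hc y (c7 ▸ hy.2))))

theorem elem {E : Subgroup G} (hE : E ≤ S ⊓ 𝐍[S ⊓ 𝐍[Q]]) (hs : ∀ a ∈ E, a * a = 1)
    (hc : Nat.card Q ≤ Nat.card E) : E ≤ S ⊓ 𝐍[Q] := fun e he => by
  by_contra hn
  have h1 : e ∉ 𝐍[Q] := fun e' => hn ⟨(hE he).1, e'⟩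
  have h2 := h.swap (hE he).2 h1
  have h3 : ∀ k ∈ S ⊓ 𝐍[Q] ⊓ E, e * k = k * e := fun k hk => comm_of_sq hs he hk.2
  refine (h.small H h8 h1 (fun k hk => ?_) h3).not_ge (hc.trans (card_le_two_mul
    fun a ha b hb => h.tri (hE ha) (hE hb)))
  have h4 : ∀ {A : Subgroup G}, k ∈ A → k ∈ cj(e, A) := fun hA => by
    have := conj_mem_cj e hA
    rwa [h3 k hk, mul_inv_cancel_right] at this
  exact (h.tm.inv k hk.1 (hs k hk.2)).elim (fun e => ⟨e, h2.1 ▸ h4 e⟩) fun e => ⟨h2.2 ▸ h4 e, e⟩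

theorem nR : 𝐍[S ⊓ 𝐍[S ⊓ 𝐍[Q]]] ≤ 𝐍[S ⊓ 𝐍[Q]] := fun y hy => by
  have l : S ⊓ 𝐍[Q] ≤ S ⊓ 𝐍[S ⊓ 𝐍[Q]] := le_inf inf_le_left le_normalizer
  refine mem_normalizer_of_cj_le ?_
  conv_lhs => rw [← h.tm.sup_eq, cj_sup]
  exact sup_le (h.elem H h8 (cj_le_of_mem_normalizer (h.tm.leA.trans l) hy) (h.tm.sq_cj y)
    (card_cj y Q).ge) (h.elem H h8 (cj_le_of_mem_normalizer (h.tm.leB.trans l) hy) (h.tm.symm.sq_cj y)
      (by rw [card_cj, card_cj]))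

variable (hS : IsSyl 2 S ⊤)
include hS

theorem R_eq : S ⊓ 𝐍[S ⊓ 𝐍[Q]] = S :=
  eq_of_inf_normalizer_le hS.pgrp inf_le_left (inf_le_inf_left _ (h.nR H h8))

theorem big {E : Subgroup G} (hE : E ≤ S) (hs : ∀ a ∈ E, a * a = 1)
    (hc : Nat.card Q ≤ Nat.card E) : E = Q ∨ E = cj(x, Q) :=
  (h.tm.le_or (h.elem H h8 ((h.R_eq H h8 hS).symm ▸ hE) hs hc) hs).imp
    (fun e => eq_of_le_of_card_ge e hc) fun e => eq_of_le_of_card_ge e (by rwa [card_cj])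

theorem tri' {a b : G} (ha : a ∈ S) (hb : b ∈ S) :
    a ∈ S ⊓ 𝐍[Q] ∨ b ∈ S ⊓ 𝐍[Q] ∨ a * b ∈ S ⊓ 𝐍[Q] :=
  h.tri ((h.R_eq H h8 hS).ge ha) ((h.R_eq H h8 hS).ge hb)

theorem type1 {E : Subgroup G} (hE : Loc E) (hSE : IsSyl 2 S 𝐍[E]) (h1 : om E ≤ 𝐂[S]) :
    E ≤ S ⊓ 𝐍[Q] := fun e he => by
  by_contra hn
  have hES := hE.le_syl hSE
  have hST : S ≤ 𝐍[S ⊓ 𝐍[Q]] := (h.R_eq H h8 hS).ge.trans inf_le_right
  obtain ⟨T', hT', ne⟩ := hE.exists_ne hSE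
  obtain ⟨g, hg, rfl⟩ := hT'.exists_cj_eq hSE
  have hoD : om E ≤ E ⊓ (S ⊓ 𝐍[Q]) := fun a ha => ⟨ha.1, hES ha.1,
    centralizer_le_normalizer' _ (centralizer_anti h.leS (h1 ha))⟩
  have l2 : om E ≤ cj(g, E ⊓ (S ⊓ 𝐍[Q])) := cj_eq_iff.2 (n_le_om E hg) ▸ cj_mono g hoD
  have cE : ∀ v ∈ Q, ∀ a ∈ E, cm v a ∈ E := fun v hv a ha =>
    mul_mem (conj_mem_of_mem_normalizer (hSE.le (h.leS hv)) ha) (inv_mem ha)
  have t1 : ∀ v ∈ Q, Tr (E ⊓ (S ⊓ 𝐍[Q])) (om E) v := fun v hv a ha =>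
    hE.mem_om (cE v hv a ha.1) (h.tm.sqA _ (h.tm.comm_mem (h.le' hv) ha.2).1)
  have t2 : ∀ v ∈ Q, Tr E (E ⊓ (S ⊓ 𝐍[Q])) v := fun v hv a ha => ⟨cE v hv a ha, by
    rw [cm, mul_assoc, mul_assoc, ← mul_assoc a]
    exact mul_mem (h.le' hv) (conj_mem_of_mem_normalizer (hST (hES ha)) (inv_mem (h.le' hv)))⟩
  have k : ∀ v ∈ Q, cm v e ∈ cj(g, E ⊓ (S ⊓ 𝐍[Q])) → v ∈ E := fun v hv hc =>
    hE.key hSE h1 inf_le_left hoD (h.leS hv) (h.tm.sqA v hv) hg ne (t1 v hv) (t2 v hv) fun a ha => by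
      by_cases haT : a ∈ S ⊓ 𝐍[Q]
      · exact l2 (t1 v hv a ⟨ha, haT⟩)
      have h2 : e⁻¹ * a ∈ S ⊓ 𝐍[Q] := ((h.tri' H h8 hS (inv_mem (hES he)) (hES ha)).resolve_left
        (mt inv_mem_iff.1 hn)).resolve_left haT
      rw [show cm v a = cm v e * (e * cm v (e⁻¹ * a) * e⁻¹) by simp only [cm]; group]
      exact mul_mem hc (l2 (conj_mem_om (le_normalizer he) (t1 v hv _
        (mem_inf.2 ⟨mul_mem (inv_mem he) ha, h2⟩))))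
  have tr : ∀ a ∈ E, ∀ b ∈ E, a ∈ cj(g, E ⊓ (S ⊓ 𝐍[Q])) ∨ b ∈ cj(g, E ⊓ (S ⊓ 𝐍[Q])) ∨
      a * b ∈ cj(g, E ⊓ (S ⊓ 𝐍[Q])) := fun a ha b hb => by
    have ha' := inv_conj_mem_of_mem_normalizer hg ha
    have hb' := inv_conj_mem_of_mem_normalizer hg hb
    refine (h.tri' H h8 hS (hES ha') (hES hb')).imp (fun e => mem_cj.2 ⟨ha', e⟩) (Or.imp
      (fun e => mem_cj.2 ⟨hb', e⟩) fun e => mem_cj.2 ⟨inv_conj_mem_of_mem_normalizer hg (mul_mem ha hb), ?_⟩)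
    rwa [show g⁻¹ * (a * b) * g = g⁻¹ * a * g * (g⁻¹ * b * g) by group]
  have c : ∀ a ∈ E ⊓ Q, a ∈ 𝐂[S] := fun a ha => h1 (hE.mem_om ha.1 (h.tm.sqA a ha.2))
  refine (h.small H h8 (fun e' => hn ⟨hES he, e'⟩) (K := E ⊓ Q) (fun a ha => h.two.2.2.2 ▸
    ⟨centralizer_anti inf_le_left (c a ha), ha.2⟩) fun a ha => c a ha e (hES he)).not_ge
    (card_le_two_mul fun a ha b hb => ?_)
  refine (tr _ (cE b hb e he) _ (cE a ha e he)).elim (fun e => Or.inr (Or.inl (k b hb e)))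
    (Or.imp (k a ha) fun e' => Or.inr (k _ (mul_mem ha hb) ?_))
  rw [show cm (a * b) e = cm a (cm b e) * (cm b e * cm a e) by simp only [cm]; group]
  exact mul_mem (l2 (t1 a ha _ (t2 b hb e he))) e'

theorem le_T {E : Subgroup G} (hE : Std S E) : E ≤ S ⊓ 𝐍[Q] := by
  by_cases hn : S ≤ 𝐍[E]
  · have hSE : IsSyl 2 S 𝐍[E] := hS.mono hn le_top
    by_cases h1 : om E ≤ 𝐂[S]
    · exact h.type1 H h8 hS hE.toLoc hSE h1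
    have h2 := hn.trans (n_le_om E)
    refine absurd (h.big H h8 hS ((om_le E).trans hE.leS) (fun _ => om_sq)
      (hE.card_le hSE h1 h.leS h.tm.sqA)) (not_or.2 ⟨fun e => h.xQ (e ▸ h2 h.xS), fun e => h.xQ ?_⟩)
    have := h2 h.xS
    rwa [e, normalizer_cj, mem_cj, inv_mul_cancel, one_mul] at this
  obtain ⟨y, hy⟩ := hE.exists_nn hS hn
  by_cases e : Nat.card Q ≤ Nat.card E
  · exact h.elem H h8 ((h.R_eq H h8 hS).symm ▸ hE.leS) hy.tm.sqA e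
  by_cases e8 : 8 ≤ Nat.card E
  · refine absurd (hy.big H e8 hS h.leS h.tm.sqA (not_le.1 e).le) (not_or.2 ⟨fun e' => e (e' ▸ le_rfl),
      fun e' => e ?_⟩)
    rw [e', card_cj]
  obtain ⟨c, -, hc⟩ := exists_cyc hS.pgrp hE.leS (hy.four (not_le.1 e8))
    (fun a ha => hE.mem_of_cent ha.2) hy.tm.A_le_cA fun e => hn (e.trans le_normalizer)
  exact absurd (h8.trans (card_le_four hc h.leS h.tm.sqA)) (by norm_num)

theorem false (h2 : ∀ M : Subgroup G, M.index ≠ 2) : False := by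
  have hn : x ∉ S ⊓ 𝐍[Q] := fun e => h.xQ e.2
  have hc : ∀ {g y : G}, y ∈ S → g * y * g⁻¹ ∈ S → y ∈ S ⊓ 𝐍[Q] → g * y * g⁻¹ ∈ S ⊓ 𝐍[Q] :=
    H.fusion hS (X := (· ∈ S ⊓ 𝐍[Q])) (fun g hg y _ hy => conj_mem_of_mem_normalizer
      (h.nR H h8 ((h.R_eq H h8 hS).symm ▸ hg)) hy)
      fun E hE g hg y hy _ => h.le_T H h8 hS hE (conj_mem_of_mem_normalizer hg hy)
  obtain ⟨P, rfl⟩ := hS.exists_sylow_top
  obtain ⟨M, -, e, -⟩ := Transfer.thompson_transfer_gen (Transfer.odd_index_sylow P)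
    (Q := P ⊓ 𝐍[Q]) (relIndex_eq_two_iff_exists_notMem_and.2 ⟨x, h.xS, hn, fun b hb =>
      ((h.tri' H h8 hS hb h.xS).imp_right fun e => e.resolve_left hn).symm⟩) (u := x)
    ((IsPGroup.iff_orderOf.1 hS.pgrp ⟨x, h.xS⟩).imp fun _ e => (orderOf_mk x h.xS).symm.trans e)
    (fun g e => hn (by simpa [mul_assoc] using hc (g := g⁻¹) e.1 (by simpa [mul_assoc] using h.xS) e))
    fun g k hk e => hc (pow_mem h.xS k) e (by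
      obtain ⟨k, rfl⟩ := hk
      rw [← two_mul, pow_mul, sq]
      exact pow_mem (((h.tri' H h8 hS h.xS h.xS).resolve_left hn).resolve_left hn) k)
  exact h2 M e

end NN

end Cfsg.Agent.TIL
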